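import Cfsg.Agent.H820.IF.JFour
import Cfsg.Agent.S5580

/-!
# S5719, the row of `J4` (helper820)
-/

set_option autoImplicit false

namespace Cfsg.Agent.H820.IFJ

/-- **The row of `J4`.** -/
theorem row_j4 : Cfsg.Agent.H209.Fxy.Row fun T => Cfsg.Spor.IsoJ4 T :=
  row Cfsg.Agent.S5580.rows Cfsg.Agent.OrdDiv.table (fun X _ _ _ => Cfsg.Agent.S0000.result)
    (Cfsg.Agent.S5581.result Cfsg.Agent.H854.JM.noncomm_J Cfsg.Agent.H854.JM.janko)

end Cfsg.Agent.H820.IFJ
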