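import Cfsg.Agent.H820.IF.JFourA
import Cfsg.Agent.H854.JM.Local
import Cfsg.Agent.H126.Inv.J4
import Cfsg.Agent.S5571

/-!
# S5719, the group `J4`: no counterexample, from the classification of the maximal subgroups (helper820)

The hypotheses `R`, `T`, `hS`, `H` are those of `H854.JM.thirteen'` (S5580).
-/

set_option autoImplicit false
set_option linter.unusedSectionVars false

open Cfsg Subgroup

namespace Cfsg.Agent.H820.IFJ

open Cfsg.Agent.H209.Fxy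
open Cfsg.Agent.H860.JM (NL Excl OneCl cj Good geo Facts)
open Cfsg.Agent.H854.JM (Rows NonLoc St81 c5 five good_J facts)

/-- the group `Spor.J4` -/
local notation "𝒢" => Cfsg.Spor.J4

theorem hna : ∃ a b : 𝒢, a * b ≠ b * a := by
  by_contra hcon
  push Not at hcon
  exact Cfsg.Agent.H860.JM.nonab ⟨⟨hcon⟩⟩

theorem card_cent {u : 𝒢} (hu : orderOf u = 2) : Nat.card (centralizer ({u} : Set 𝒢)) = 21799895040 ∨
    Nat.card (centralizer ({u} : Set 𝒢)) = 1816657920 := by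
  have := Cfsg.Agent.H860.JM.finite_J
  have h1 : u ≠ 1 := by
    rintro rfl
    rw [orderOf_one] at hu
    exact absurd hu (by norm_num)
  have h2 : u * u = 1 := by rw [← pow_two, ← hu, pow_orderOf_eq_one]
  rcases Cfsg.Agent.H860.JM.invol h1 h2 with h | h
  · left
    rw [← Cfsg.Agent.H860.JM.card_cent_of_conj h]
    exact Cfsg.Agent.H546.JM.card_cent_s
  · right
    obtain ⟨z, t, -, -, -, h3, -, h4⟩ := Cfsg.Agent.H860.JM.classes
    rw [← Cfsg.Agent.H860.JM.card_cent_of_conj h, Cfsg.Agent.H860.JM.card_cent_of_conj h3]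
    exact h4

/-- a maximal subgroup is small, of order `141831360`, or 2-local -/
theorem orders (R : Rows) (T : Cfsg.Agent.OrdDiv.OrderTable.{0}) (hS : Cfsg.Agent.H866.J4Min.Known.{0}) (H : St81)
    {M : Subgroup 𝒢} (hM : IsCoatom M) : (Nat.card M ≤ 13000000 ∨ Nat.card M = 141831360) ∨ Good geo M := by
  have := Cfsg.Agent.H860.JM.simple_J
  have := Cfsg.Agent.H860.JM.finite_J
  by_cases hloc : NonLoc M
  · left
    obtain ⟨f, -, h2, h3⟩ := five R T hS H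
    obtain ⟨i, g, rfl⟩ := h3 M hM hloc
    rw [Subgroup.card_map_of_injective (MulAut.conj g).injective, h2 i]
    fin_cases i <;> simp [c5]
  · unfold Cfsg.Agent.H854.JM.NonLoc at hloc
    push Not at hloc
    obtain ⟨p, hp, Q, hQM, hQ, hn, hQb⟩ := hloc
    by_cases hp2 : p = 2
    · subst hp2
      exact Or.inr (good_J M hM Q hQb hQ hQM hn)
    · have := Fact.mk hp
      have f11 : Fact (Nat.Prime 11) := ⟨by norm_num⟩
      have f29 : Fact (Nat.Prime 29) := ⟨by norm_num⟩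
      have f37 : Fact (Nat.Prime 37) := ⟨by norm_num⟩
      have f43 : Fact (Nat.Prime 43) := ⟨by norm_num⟩
      have nc := Cfsg.Agent.H854.JM.noncomm_J
      have isJ := Cfsg.Agent.H854.JM.janko
      obtain ⟨-, o29, -, o37, o43⟩ := Cfsg.Agent.S5577.result nc isJ
      rcases Cfsg.Agent.H820.J4L.odd_local nc isJ
        (Cfsg.Agent.H866.J4Facts.facts T hS nc isJ) (MulEquiv.refl _) hp2 hM hQb
        hQM hn hQ with ⟨Q, k1, k2, k4, k5⟩ | ⟨U, rfl⟩ | ⟨U, rfl⟩ | ⟨U, rfl⟩ | ⟨U, rfl⟩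
      · exact Or.inr (good_J M hM Q k1 k2 k4 k5)
      · left; left
        rw [(Cfsg.Agent.S5575.result nc isJ U).2.2.2.1]
        norm_num
      · left; left
        rw [(o29 U).2]
        norm_num
      · left; left
        rw [(o37 U).2]
        norm_num
      · left; left
        rw [(o43 U).2]
        norm_num

/-- `A` is maximal -/
theorem isCoatom_of {A : Subgroup 𝒢} (h : ∃ Γ, IF A Γ) : IsCoatom A := by
  obtain ⟨Γ, h⟩ := h
  refine ⟨h.ne_top, fun B hB => ?_⟩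
  rcases h.max B hB.le (by
    intro σ hσ b hb
    obtain ⟨a, rfl⟩ := Cfsg.Agent.H126.Inv.J4.inner σ
    have ha : a ∈ A := (h.conj a).1 hσ
    rw [MulAut.conj_apply]
    exact B.mul_mem (B.mul_mem (hB.le ha) hb) (B.inv_mem (hB.le ha))) with h1 | h1
  · exact absurd h1 hB.ne'
  · exact h1

theorem to_std {A : Subgroup 𝒢} {Γ : Subgroup (MulAut 𝒢)} (h : IF A Γ) {g : 𝒢} {M : Subgroup 𝒢} (hA : A = cj g M) :
    ∃ Γ' : Subgroup (MulAut 𝒢), IF M Γ' := by
  have h1 := h.map (MulAut.conj g⁻¹)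
  have h2 : A.map (MulAut.conj g⁻¹).toMonoidHom = M := by
    rw [hA]
    ext x
    constructor
    · rintro ⟨_, ⟨y, hy, rfl⟩, rfl⟩
      show g⁻¹ * (g * y * g⁻¹) * g⁻¹⁻¹ ∈ M
      rwa [show g⁻¹ * (g * y * g⁻¹) * g⁻¹⁻¹ = y by group]
    · intro hx
      refine ⟨g * x * g⁻¹, ⟨x, hx, rfl⟩, ?_⟩
      show g⁻¹ * (g * x * g⁻¹) * g⁻¹⁻¹ = x
      group
  rw [h2] at h1
  exact ⟨_, h1⟩

/-- **`J4`.** -/
theorem kill (R : Rows) (T : Cfsg.Agent.OrdDiv.OrderTable.{0}) (hS : Cfsg.Agent.H866.J4Min.Known.{0}) (H : St81) :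
    Kill 𝒢 := by
  intro A Γ h
  have hsi := Cfsg.Agent.H860.JM.simple_J
  have hfi := Cfsg.Agent.H860.JM.finite_J
  have hco := isCoatom_of ⟨Γ, h⟩
  rcases orders R T hS H hco with h1 | h1
  · obtain ⟨σ, hσ, ho, -⟩ := h.ex
    obtain ⟨a, rfl⟩ := Cfsg.Agent.H126.Inv.J4.inner σ
    have haA : a ∈ A := (h.conj a).1 hσ
    have ha2 : orderOf a = 2 := by rwa [Cfsg.Agent.H999.IFB.orderOf_conj hna] at ho
    exact case_ord h hna Cfsg.Agent.H546.JM.card_J haA ha2 (card_cent ha2) h1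
  obtain ⟨X, hX⟩ := Cfsg.Agent.H546.JM.exists_X
  have hsm := Cfsg.Agent.H860.JM.s_mem
  have hs1 : Cfsg.Agent.J4.Invol.s ≠ 1 := Cfsg.Agent.H860.JM.s_ne
  have hs2 : orderOf Cfsg.Agent.J4.Invol.s = 2 :=
    orderOf_eq_prime (by rw [pow_two]; exact Cfsg.Agent.H860.JM.EJ_sq hsm) hs1
  obtain ⟨z, hz⟩ := Cfsg.Agent.H860.JM.isJ
  obtain ⟨z₀, t₀, hz₀, hsz, ht0, hdt, -, hct⟩ := Cfsg.Agent.H860.JM.classes
  obtain ⟨z', t, hz', ht, ht1, hzz, hzt, o1, o2, hCt⟩ :=
    Cfsg.Agent.S5568.result Cfsg.Agent.H860.JM.nonab z₀ hz₀ Cfsg.Agent.J4.Invol.EJ Cfsg.Agent.H860.JM.elem_EJ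
      Cfsg.Agent.H860.JM.card_EJ
  have hsz' : IsConj Cfsg.Agent.J4.Invol.s z' := hsz.trans hzz
  have hcz' : Nat.card (centralizer ({z'} : Set 𝒢)) = 21799895040 := by
    rw [← Cfsg.Agent.H860.JM.card_cent_of_conj hsz']
    exact Cfsg.Agent.H546.JM.card_cent_s
  rcases Cfsg.Agent.H546.JM.good_conj T hS hX hco h1 with ⟨g, hg⟩ | ⟨g, hg⟩ | ⟨g, hg⟩ | ⟨g, hg⟩
  · obtain ⟨Γ', h'⟩ := to_std h hg
    refine case_z h' hna Cfsg.Agent.H546.JM.card_J (z := Cfsg.Agent.J4.Invol.s) hs2 Cfsg.Agent.H546.JM.card_cent_s rfl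
      (S := {v : 𝒢 | ∃ n ∈ Subgroup.normalizer (Cfsg.Agent.J4.Invol.EJ : Set 𝒢), n * z' * n⁻¹ = v}) ?_ ?_
      (by rw [o1]; norm_num)
    · rintro _ ⟨n, hn, rfl⟩
      exact Cfsg.Agent.H860.JM.EJ_comm ((Subgroup.mem_normalizer_iff.1 hn z').1 hz') hsm
    · rintro _ ⟨n, hn, rfl⟩
      exact hsz'.trans (isConj_iff.2 ⟨n, rfl⟩)
  · obtain ⟨Γ', h'⟩ := to_std h hg
    have hz1 : z' ≠ 1 := by
      rintro rfl
      obtain ⟨c, hc⟩ := isConj_iff.1 hsz'
      apply hs1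
      calc Cfsg.Agent.J4.Invol.s = c⁻¹ * (c * Cfsg.Agent.J4.Invol.s * c⁻¹) * c := by group
        _ = 1 := by rw [hc]; group
    have hzt' : ¬ IsConj z' t := fun hh => hzt (hzz.trans hh)
    have ht2 : orderOf t = 2 := orderOf_eq_prime (by rw [pow_two]; exact Cfsg.Agent.H860.JM.EJ_sq ht) ht1
    have hct' : Nat.card (centralizer ({t} : Set 𝒢)) = 1816657920 := by
      rcases Cfsg.Agent.H860.JM.invol ht1 (Cfsg.Agent.H860.JM.EJ_sq ht) with h2 | h2
      · exact absurd (hsz'.symm.trans h2) hzt'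
      · rw [← Cfsg.Agent.H860.JM.card_cent_of_conj h2, Cfsg.Agent.H860.JM.card_cent_of_conj hdt]
        exact hct
    refine case_V h' hna Cfsg.Agent.H546.JM.card_J (V := Cfsg.Agent.J4.Invol.EJ) rfl
      (by rw [Cfsg.Agent.H860.JM.card_NEJ]; norm_num) (fun x hx y hy => Cfsg.Agent.H860.JM.EJ_comm hx hy)
      (fun x hx => Cfsg.Agent.H860.JM.EJ_sq hx) Cfsg.Agent.H860.JM.card_EJ hz' ht hz1 ht1 hzt' hcz' hct' o1 o2 hCt
  · obtain ⟨Γ', h'⟩ := to_std h hg
    obtain ⟨a, b, haX, -, h155, -⟩ := Cfsg.Agent.S5571.result Cfsg.Agent.H860.JM.nonab Cfsg.Agent.H860.JM.isJ X hX.1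
      hX.2.1 hX.2.2
    have ha1 : a ≠ 1 := by
      rintro rfl
      have h2 : {v : 𝒢 | ∃ n ∈ Subgroup.normalizer (X : Set 𝒢), n * 1 * n⁻¹ = v} = {1} := by
        ext v
        constructor
        · rintro ⟨n, -, rfl⟩
          show n * 1 * n⁻¹ = 1
          group
        · rintro rfl
          exact ⟨1, one_mem _, by group⟩
      rw [h2, Set.ncard_singleton] at h155
      exact absurd h155 (by norm_num)
    have ha2 : orderOf a = 2 := orderOf_eq_prime (hX.1.2 a haX) ha1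
    rw [ncard_conj] at h155
    exact case_X h' hna Cfsg.Agent.H546.JM.card_J (Cfsg.Agent.H546.JM.card_NX hX)
      (Subgroup.le_normalizer haX) ha2 (card_cent ha2) h155
  · obtain ⟨Γ', h'⟩ := to_std h hg
    have hLn : geo.Ln Cfsg.Agent.H858.Loc7.Z := ⟨1, by
      ext x
      constructor
      · intro hx
        exact ⟨x, hx, by simp⟩
      · rintro ⟨y, hy, rfl⟩
        have : (MulAut.conj (1 : 𝒢)).toMonoidHom y = y := by simp
        rw [this]
        exact hy⟩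
    have hD8 := facts.f6.card _ hLn
    have hpu := facts.f6.pure _ hLn
    obtain ⟨u, hu, hu1⟩ : ∃ u ∈ Cfsg.Agent.H858.Loc7.Z, u ≠ 1 := by
      by_contra hcon
      push Not at hcon
      rw [(Subgroup.eq_bot_iff_forall _).2 hcon, Subgroup.card_bot] at hD8
      exact absurd hD8 (by norm_num)
    have hsu : IsConj Cfsg.Agent.J4.Invol.s u := hpu u hu hu1
    have hu2 : orderOf u = 2 := by
      obtain ⟨c, rfl⟩ := isConj_iff.1 hsu
      rw [← hs2]
      exact orderOf_injective (MulAut.conj c).toMonoidHom (MulAut.conj c).injective _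
    refine case_D h' hna Cfsg.Agent.H546.JM.card_J (Cfsg.Agent.H858.MLoc.card_NL Cfsg.Agent.H546.JM.card_cent_s)
      (D := Cfsg.Agent.H858.Loc7.Z) ?_ hD8 hu hu2 ?_ (fun v hv hv1 => hsu.symm.trans (hpu v hv hv1))
    · rw [Cfsg.Agent.H546.JM.NZ_eq]
      exact Subgroup.le_normalizer
    · rw [← Cfsg.Agent.H860.JM.card_cent_of_conj hsu]
      exact Cfsg.Agent.H546.JM.card_cent_s

/-- **The row of `J4`** (the hypotheses are those of S5580) -/
theorem row (R : Rows) (T : Cfsg.Agent.OrdDiv.OrderTable.{0}) (hS : Cfsg.Agent.H866.J4Min.Known.{0}) (H : St81) :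
    Row fun T => Cfsg.Spor.IsoJ4 T := by
  rintro T' _ _ _ - ⟨e⟩ A Γ hA
  exact Kill.congr e.symm (kill R T hS H) A Γ hA

end Cfsg.Agent.H820.IFJ
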